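import Groth.Agent.H27CurveHilb.Descend
import Groth.Agent.H22Alg.VarDim
import Mathlib

/-! # Points of the Hilbert scheme of points of a planar curve -/

set_option autoImplicit false
set_option linter.style.haveILetI false
set_option backward.isDefEq.respectTransparency false
set_option backward.isDefEq.respectTransparency.types false

universe u

open CategoryTheory CategoryTheory.Limits AlgebraicGeometry TensorProduct CommRingCat

namespace Groth.Agent.H27CurveHilb

open H27HilbOps H27HilbAff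
open H27Fogarty
open Groth.Agent.H8Props.FieldDim (cdim)

/-- Embeddings extend along finite extensions of domains into algebraically closed fields. -/
theorem exists_extend {k R S M : Type u} [Field k] [Field M] [IsAlgClosed M] [Algebra k M] [CommRing R] [IsDomain R]
    [Algebra k R] [CommRing S] [IsDomain S] [Algebra k S] (g : R →ₐ[k] S) (hg : Function.Injective g)
    (hfin : g.toRingHom.Finite) (α : R →ₐ[k] M) (hα : Function.Injective α) :
    ∃ χ : S →ₐ[k] M, χ.comp g = α := by
  letI := g.toRingHom.toAlgebra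
  letI := α.toRingHom.toAlgebra
  haveI : Module.Finite R S := hfin
  haveI : FaithfulSMul R S := (faithfulSMul_iff_algebraMap_injective _ _).mpr hg
  haveI : FaithfulSMul R M := (faithfulSMul_iff_algebraMap_injective _ _).mpr hα
  let χ : S →ₐ[R] M := IsAlgClosed.lift
  refine ⟨{ χ.toRingHom with commutes' := fun r => ?_ }, AlgHom.ext fun x => χ.commutes x⟩
  show χ (algebraMap k S r) = _
  rw [← g.commutes, ← α.commutes]
  exact χ.commutes _

variable {k : Type u} [Field k]

local notation "σ₀" => 𝟙 (Spec (CommRingCat.of k))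

lemma mem_range_point {H : Scheme.{u}} {K : Type u} [Field K] (a : Spec (CommRingCat.of K) ⟶ H)
    (z : Spec (CommRingCat.of K)) : a z = a (IsLocalRing.closedPoint K) :=
  congrArg a (@Subsingleton.elim (PrimeSpectrum K) inferInstance _ _)

/-- A field valued point factors through its residue field, whose transcendence degree is the dimension of the
point. -/
theorem exists_residue (H : Over (Spec (CommRingCat.of k))) [LocallyOfFiniteType H.hom] {K : Type u} [Field K]
    [Algebra k K] (a : TP k K ⟶ H) :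
    ∃ (L : Type u) (_ : Field L) (_ : Algebra k L) (φ : L →ₐ[k] K) (b : TP k L ⟶ H),
      TPmap φ ≫ b = a ∧
        ∃ s : ℕ, cdim (a.left (IsLocalRing.closedPoint K)) = s ∧ Algebra.trdeg k L = s := by
  set h := a.left (IsLocalRing.closedPoint K) with hh
  let φ₀ := Spec.preimage (H.left.fromSpecResidueField h ≫ H.hom)
  letI : Algebra k (H.left.residueField h) := φ₀.hom.toAlgebra
  have hb : H.left.fromSpecResidueField h ≫ H.hom =
      Spec.map (ofHom (algebraMap k (H.left.residueField h))) := (Spec.map_preimage _).symm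
  let b : TP k (H.left.residueField h) ⟶ H := Over.homMk (H.left.fromSpecResidueField h) (by
    show _ = (Spec.map (ofHom (algebraMap k _)) ≫ σ₀) ≫ σ₀
    simp only [Category.comp_id]
    exact hb)
  let ψ := Scheme.descResidueField (Scheme.stalkClosedPointTo a.left)
  have hψ : Spec.map ψ ≫ H.left.fromSpecResidueField h = a.left :=
    Scheme.descResidueField_stalkClosedPointTo_fromSpecResidueField K H.left a.left
  have hk : ofHom (algebraMap k (H.left.residueField h)) ≫ ψ = ofHom (algebraMap k K) := by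
    refine Spec.map_injective ?_
    rw [Spec.map_comp, ← hb, reassoc_of% hψ]
    have := Over.w a
    exact this.trans (by show (Spec.map _ ≫ σ₀) ≫ σ₀ = _; simp only [Category.comp_id])
  let φ : H.left.residueField h →ₐ[k] K :=
    { ψ.hom with commutes' := fun r => congr($(hk).hom r) }
  obtain ⟨s, hs, hs'⟩ := Groth.Agent.H8Props.FieldDim.exists_trdeg H.hom (L := H.left.residueField h)
    (H.left.fromSpecResidueField h) hb (IsLocalRing.closedPoint _)
  refine ⟨H.left.residueField h, inferInstance, φ₀.hom.toAlgebra, φ, b, Over.OverMorphism.ext hψ, s, ?_, hs'⟩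
  rw [← hs]
  erw [Scheme.fromSpecResidueField_apply]

/-- Every point is the image of a geometric point. -/
theorem exists_geometric_point (H : Over (Spec (CommRingCat.of k))) (h : H.left) :
    ∃ (K : Type u) (_ : Field K) (_ : IsAlgClosed K) (_ : Algebra k K) (a : TP k K ⟶ H),
      a.left (IsLocalRing.closedPoint K) = h := by
  let φ₀ := Spec.preimage (H.left.fromSpecResidueField h ≫ H.hom)
  let ι : H.left.residueField h ⟶ CommRingCat.of (AlgebraicClosure (H.left.residueField h)) :=
    ofHom (algebraMap ↥(H.left.residueField h) (AlgebraicClosure ↥(H.left.residueField h)))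
  letI : Algebra k (AlgebraicClosure (H.left.residueField h)) := (φ₀ ≫ ι).hom.toAlgebra
  refine ⟨AlgebraicClosure (H.left.residueField h), inferInstance, inferInstance, (φ₀ ≫ ι).hom.toAlgebra,
    Over.homMk (Spec.map ι ≫ H.left.fromSpecResidueField h) ?_, ?_⟩
  · show _ = (Spec.map (φ₀ ≫ ι) ≫ σ₀) ≫ σ₀
    simp only [Category.comp_id, Category.assoc, Spec.map_comp, φ₀, Spec.map_preimage]
  · show (Spec.map ι ≫ H.left.fromSpecResidueField h) _ = h
    rw [Scheme.Hom.comp_apply]
    exact Scheme.fromSpecResidueField_apply _ _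

variable {X : Scheme.{u}} (f : X ⟶ Spec (CommRingCat.of k)) [IsSeparated f] {d : ℕ}
  {H : Over (Spec (CommRingCat.of k))} [LocallyOfFiniteType H.hom] (Z : HilbD.Obj f d H)

omit [IsSeparated f] [LocallyOfFiniteType H.hom] in
/-- The points of a member over a field. -/
lemma finite_image {K : Type u} [Field K] [Algebra k K] (W : HilbD.Obj f d (TP k K)) :
    (Set.range (W.1.subschemeι ≫ pullback.fst f (TP k K).hom)).Finite := by
  haveI : Subsingleton (TP k K).left := inferInstanceAs (Subsingleton (PrimeSpectrum K))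
  have hfin : (Set.univ : Set W.1.subscheme).Finite := by
    refine Set.Finite.subset (Set.finite_of_encard_le_coe (H27HilbOps.encard_fibre_le _ W.2
      (IsLocalRing.closedPoint K : (TP k K).left))) fun z _ => ?_
    exact Subsingleton.elim _ _
  rw [← Set.image_univ]
  exact hfin.image _

omit [LocallyOfFiniteType H.hom] in
/-- Ideals with the same family agree. -/
lemma fam_injective {A : Type u} [CommRing A] [Algebra k A] [IsNoetherianRing A] {B : Type u} [CommRing B]
    [Algebra k B] (j : Spec (CommRingCat.of B) ⟶ X) [IsOpenImmersion j]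
    (hw : j ≫ f = fB (R := k) (B := B) σ₀ ≫ σ₀) {K K' : Ideal (A ⊗[k] B)} {n n' : ℕ}
    (hK : Module.Finite A ((A ⊗[k] B) ⧸ K) ∧ Module.Free A ((A ⊗[k] B) ⧸ K) ∧
      Module.finrank A ((A ⊗[k] B) ⧸ K) = n)
    (hK' : Module.Finite A ((A ⊗[k] B) ⧸ K') ∧ Module.Free A ((A ⊗[k] B) ⧸ K') ∧
      Module.finrank A ((A ⊗[k] B) ⧸ K') = n')
    (e : fam f j hw K = fam f j hw K') : K = K' := by
  refine famOf_injective σ₀ ?_
  have h1 := comap_pushO f (fB σ₀) j σ₀ hw (d := n) (T := TA σ₀ A) ⟨famOf σ₀ K, deg_famOf K hK⟩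
  have h2 := comap_pushO f (fB σ₀) j σ₀ hw (d := n') (T := TA σ₀ A) ⟨famOf σ₀ K', deg_famOf K' hK'⟩
  exact h1.symm.trans ((congrArg (fun I => I.comap (XOincl f (fB σ₀) j σ₀ hw (TA σ₀ A))) e).trans h2)

omit [LocallyOfFiniteType H.hom] in
/-- The points of a family in the chart lie in the chart. -/
lemma range_fam_subset {A : Type u} [CommRing A] [Algebra k A] [IsNoetherianRing A] {B : Type u} [CommRing B]
    [Algebra k B] (j : Spec (CommRingCat.of B) ⟶ X) [IsOpenImmersion j]
    (hw : j ≫ f = fB (R := k) (B := B) σ₀ ≫ σ₀) {K : Ideal (A ⊗[k] B)} {n : ℕ}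
    (hK : Module.Finite A ((A ⊗[k] B) ⧸ K) ∧ Module.Free A ((A ⊗[k] B) ⧸ K) ∧
      Module.finrank A ((A ⊗[k] B) ⧸ K) = n) :
    Set.range ((fam f j hw K).subschemeι ≫ pullback.fst f (TP k A).hom) ⊆ Set.range j := by
  haveI := isClosedImmersion_push f (fB σ₀) j σ₀ hw (d := n) (T := TA σ₀ A) ⟨famOf σ₀ K, deg_famOf K hK⟩
  let m := (famOf σ₀ K).subschemeι ≫ XOincl f (fB σ₀) j σ₀ hw (TA σ₀ A)
  haveI : IsClosedImmersion m := this
  rintro _ ⟨z, rfl⟩
  obtain ⟨w, rfl⟩ := (Scheme.homeoOfIso (asIso m.toImage)).surjective z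
  show pullback.fst f (TP k A).hom (m.imageι (m.toImage w)) ∈ _
  rw [← Scheme.Hom.comp_apply m.toImage, Scheme.Hom.toImage_imageι]
  have : XOincl f (fB σ₀) j σ₀ hw (TA σ₀ A) ((famOf σ₀ K).subschemeι w) ∈
      Set.range (XOincl f (fB σ₀) j σ₀ hw (TA σ₀ A)) := ⟨_, rfl⟩
  rw [range_XOincl] at this
  exact this

/-- Every point of the Hilbert scheme of points of a planar curve has dimension at most the degree. -/
theorem cdim_le (hZ : HilbD.IsUniversal f d H Z)
    (hchart : ∀ E : Set X, E.Finite → ∃ (B : Type u) (_ : CommRing B) (_ : Algebra k B) (_ : Algebra.FiniteType k B)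
      (j : Spec (CommRingCat.of B) ⟶ X) (_ : IsOpenImmersion j)
      (_ : j ≫ f = fB (R := k) (B := B) σ₀ ≫ σ₀), E ⊆ Set.range j ∧ ringKrullDim B ≤ 1 ∧
        ∀ (L : Type u) [Field L] [Algebra k L] (χ : B →ₐ[k] L), ∃ b₁ b₂, GenTwo χ b₁ b₂)
    (h : H.left) : cdim h ≤ (d : WithBot ℕ∞) := by
  obtain ⟨K, iK, iKc, iKa, a, rfl⟩ := exists_geometric_point H h
  let W := pullObj f a Z
  obtain ⟨B, iB, iBa, iBf, j, ij, hw, hE, hB, htwo⟩ := hchart _ (finite_image f W)
  obtain ⟨J, ⟨hJ1, hJ2, hJ3⟩, hJW⟩ := exists_eq_fam f j hw W fun z => hE ⟨z, rfl⟩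
  haveI := hJ1
  obtain ⟨F, iF, iFa, σ, htr, J₀, hJ₀, hmap⟩ := exists_field_of_definition hB htwo J hJ3
  obtain ⟨a₀, ha₀, -⟩ := hZ _ (famObj f j hw J₀ hJ₀)
  have ha : TPmap σ ≫ a₀ = a := (hZ _ W).unique (by
    show HilbD.pull f (TPmap σ ≫ a₀) Z.1 = W.1
    rw [pull_comp, ha₀, famObj_val, pull_fam f j hw J₀ hJ₀, hmap, hJW]) rfl
  obtain ⟨L, iL, iLa, φ, b, hb, s, hs, hs'⟩ := exists_residue H a₀
  rw [← ha, show (TPmap σ ≫ a₀).left (IsLocalRing.closedPoint K) = a₀.left (IsLocalRing.closedPoint F) from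
    mem_range_point a₀.left _, hs]
  have h1 : (s : Cardinal.{u}) ≤ (d : Cardinal.{u}) :=
    hs'.symm.le.trans ((trdeg_le_of_injective φ φ.toRingHom.injective).trans htr)
  exact_mod_cast (Nat.cast_le.1 h1)

/-- Some point of the Hilbert scheme of points of a curve has dimension at least the degree, given enough
independent elements. -/
theorem exists_le_cdim_aux (hZ : HilbD.IsUniversal f d H Z) {B : Type u} [CommRing B] [Algebra k B]
    (j : Spec (CommRingCat.of B) ⟶ X) [IsOpenImmersion j] (hw : j ≫ f = fB (R := k) (B := B) σ₀ ≫ σ₀)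
    {K : Type u} [Field K] [Algebra k K] {s : ℕ} (hs : 1 ≤ s) (T : Fin d × Fin s → K) (hT : AlgebraicIndependent k T)
    (x : Fin d → (B →ₐ[k] K)) (β : Fin s → B) (hxβ : ∀ i m, x i (β m) = T (i, m)) :
    ∃ h : H.left, (d : WithBot ℕ∞) ≤ cdim h := by
  classical
  have hinj : Function.Injective x := fun i i' e => by
    have h0 := (hxβ i ⟨0, hs⟩).symm.trans ((DFunLike.congr_fun e (β ⟨0, hs⟩)).trans (hxβ i' ⟨0, hs⟩))
    exact (Prod.mk.injEq _ _ _ _ ▸ hT.injective h0).1
  -- the subscheme
  let M : Fin d → Ideal (K ⊗[k] B) := fun i => RingHom.ker (evPt (x i))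
  have hsur : ∀ i, Function.Surjective (evPt (x i)) := fun i c => ⟨c ⊗ₜ (1 : B), by simp⟩
  let eK : ∀ i, ((K ⊗[k] B) ⧸ M i) ≃ₗ[K] K := fun i =>
    (Ideal.quotientKerAlgEquivOfSurjective (hsur i)).toLinearEquiv
  haveI : ∀ i, Module.Finite K ((K ⊗[k] B) ⧸ M i) := fun i => Module.Finite.equiv (eK i).symm
  obtain ⟨hf, hr⟩ := finite_quot_prod (L := K) M
    (pairwise_coprime_locIdeal x hinj 1 M fun i => (pow_one _).le)
  have hJ : Module.Finite K ((K ⊗[k] B) ⧸ ∏ i, M i) ∧ Module.Free K ((K ⊗[k] B) ⧸ ∏ i, M i) ∧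
      Module.finrank K ((K ⊗[k] B) ⧸ ∏ i, M i) = d := by
    refine ⟨hf, inferInstance, hr.trans ?_⟩
    simp only [fun i => (eK i).finrank_eq, Module.finrank_self, Finset.sum_const, Finset.card_univ,
      Fintype.card_fin, smul_eq_mul, mul_one]
  obtain ⟨a, ha, -⟩ := hZ _ (famObj f j hw _ hJ)
  refine ⟨a.left (IsLocalRing.closedPoint K), ?_⟩
  obtain ⟨L, iL, iLa, φ, b, hb, n, hn, hn'⟩ := exists_residue H a
  -- the family over the residue field lies in the chart
  let W := pullObj f b Z
  have hpull : HilbD.pull f (TPmap φ) W.1 = fam f j hw (∏ i, M i) := by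
    show HilbD.pull f (TPmap φ) (HilbD.pull f b Z.1) = _
    rw [← pull_comp, hb, ha, famObj_val]
  have hsupp : ∀ z : W.1.subscheme, (W.1.subschemeι ≫ pullback.fst f (TP k L).hom) z ∈ Set.range j := by
    intro z
    obtain ⟨u, hu⟩ := exists_isPullback_pull f (TPmap φ) W.1
    have hu' := hu.paste_vert (isPullback_XTmap f (TPmap φ))
    haveI : Surjective (TPmap φ).left := ⟨fun t => ⟨IsLocalRing.closedPoint K,
      @Subsingleton.elim (PrimeSpectrum L) inferInstance _ _⟩⟩
    haveI : Surjective u := MorphismProperty.of_isPullback (P := @Surjective) hu'.flip inferInstance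
    obtain ⟨w, rfl⟩ := u.surjective z
    rw [Scheme.Hom.comp_apply, ← fst_pull_ι f (TPmap φ) W.1 hu w]
    have hsub := range_fam_subset f j hw hJ
    rw [← hpull] at hsub
    exact hsub ⟨w, Scheme.Hom.comp_apply _ _ _⟩
  obtain ⟨JL, hJL, hJLW⟩ := exists_eq_fam f j hw W hsupp
  have hmapL : JL.map (bc φ) = ∏ i, M i := by
    refine fam_injective f j hw (map_rank JL hJL φ) hJ ?_
    rw [← pull_fam f j hw JL hJL φ, hJLW, hpull]
  -- the coordinates of the points are algebraic over the residue field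
  haveI := hJL.1
  letI := φ.toRingHom.toAlgebra
  haveI : IsScalarTower k L K := IsScalarTower.of_algebraMap_eq fun r => (φ.commutes r).symm
  have hint : ∀ q, T q ∈ algebraicClosure L K := by
    rintro ⟨i, m⟩
    obtain ⟨P', hP', hPy⟩ := Algebra.IsIntegral.isIntegral (R := L)
      (Ideal.Quotient.mk JL ((1 : L) ⊗ₜ[k] β m))
    rw [IsScalarTower.algebraMap_eq L (L ⊗[k] B) ((L ⊗[k] B) ⧸ JL), Ideal.Quotient.algebraMap_eq,
      ← Polynomial.hom_eval₂, Ideal.Quotient.eq_zero_iff_mem] at hPy
    have hmem := Ideal.mem_map_of_mem (bc φ) hPy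
    rw [hmapL] at hmem
    have hev : (evPt (x i)).toRingHom ((bc φ) (Polynomial.eval₂ (algebraMap L (L ⊗[k] B)) ((1 : L) ⊗ₜ[k] β m) P')) = 0 :=
      RingHom.mem_ker.1 ((Ideal.prod_le_inf.trans (Finset.inf_le (Finset.mem_univ i))) hmem)
    rw [Polynomial.hom_eval₂, Polynomial.hom_eval₂] at hev
    refine mem_algebraicClosure_iff.2 (IsIntegral.isAlgebraic ⟨P', hP', Eq.trans ?_ hev⟩)
    congr 1
    · refine RingHom.ext fun c => ?_
      show φ c = evPt (x i) (bc φ (c ⊗ₜ[k] (1 : B)))
      simp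
    · show T (i, m) = evPt (x i) (bc φ ((1 : L) ⊗ₜ[k] β m))
      simp [hxβ]
  let T' : Fin d × Fin s → algebraicClosure L K := fun q => ⟨T q, hint q⟩
  have hT' : AlgebraicIndependent k T' :=
    AlgebraicIndependent.of_comp ((algebraicClosure L K).val.restrictScalars k) hT
  have h1 := hT'.lift_cardinalMk_le_trdeg
  rw [← trdeg_add_eq k L (A := algebraicClosure L K), trdeg_eq_zero (R := L), add_zero, hn',
    Cardinal.mk_fintype, Cardinal.lift_natCast, Cardinal.lift_natCast, Nat.cast_le, Fintype.card_prod,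
    Fintype.card_fin, Fintype.card_fin] at h1
  rw [hn]
  exact_mod_cast (Nat.le_mul_of_pos_right d hs).trans h1

/-- Some point of the Hilbert scheme of points of a curve has dimension at least the degree. -/
theorem exists_le_cdim (hZ : HilbD.IsUniversal f d H Z) {B : Type u} [CommRing B] [Algebra k B]
    [Algebra.FiniteType k B] (j : Spec (CommRingCat.of B) ⟶ X) [IsOpenImmersion j]
    (hw : j ≫ f = fB (R := k) (B := B) σ₀ ≫ σ₀) (p : Ideal B) [p.IsPrime] (hp : 1 ≤ ringKrullDim (B ⧸ p)) :
    ∃ h : H.left, (d : WithBot ℕ∞) ≤ cdim h := by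
  haveI : Algebra.FiniteType k (B ⧸ p) := Algebra.FiniteType.trans (R := k) (S := B) inferInstance inferInstance
  obtain ⟨s, g, hg, hfin⟩ := exists_finite_inj_algHom_of_fg k (B ⧸ p)
  have hs : 1 ≤ s := by
    letI := g.toRingHom.toAlgebra
    haveI : Module.Finite (MvPolynomial (Fin s) k) (B ⧸ p) := hfin
    have h1 := (H05EGA4.dim_int (MvPolynomial (Fin s) k) (B ⧸ p)).2 hg
    rw [MvPolynomial.ringKrullDim_of_isNoetherianRing, ringKrullDim_eq_zero_of_field] at h1
    rw [h1] at hp
    simpa using hp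
  suffices key : ∀ (K : Type u) [Field K] [IsAlgClosed K] [Algebra k K] (T : Fin d × Fin s → K),
      AlgebraicIndependent k T → ∃ h : H.left, (d : WithBot ℕ∞) ≤ cdim h by
    refine key (AlgebraicClosure (FractionRing (MvPolynomial (Fin d × Fin s) k)))
      (fun q => algebraMap (MvPolynomial (Fin d × Fin s) k) _ (MvPolynomial.X q)) ?_
    refine (MvPolynomial.algebraicIndependent_X (Fin d × Fin s) k).map'
      (f := IsScalarTower.toAlgHom k (MvPolynomial (Fin d × Fin s) k) _) ?_
    show Function.Injective (algebraMap (MvPolynomial (Fin d × Fin s) k) _)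
    rw [IsScalarTower.algebraMap_eq (MvPolynomial (Fin d × Fin s) k) (FractionRing (MvPolynomial (Fin d × Fin s) k))]
    exact (algebraMap (FractionRing (MvPolynomial (Fin d × Fin s) k)) _).injective.comp
      (IsFractionRing.injective (MvPolynomial (Fin d × Fin s) k) _)
  intro K _ _ _ T hT
  have hα : ∀ i, Function.Injective (MvPolynomial.aeval (R := k) fun m => T (i, m)) := fun i =>
    algebraicIndependent_iff_injective_aeval.1
      (hT.comp (fun m => (i, m)) fun m m' e => (Prod.mk.injEq _ _ _ _ ▸ e).2)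
  choose χ hχ using fun i => exists_extend g hg hfin (MvPolynomial.aeval (R := k) fun m => T (i, m)) (hα i)
  choose β hβ using fun m : Fin s => Ideal.Quotient.mk_surjective (g (MvPolynomial.X m))
  refine exists_le_cdim_aux f Z hZ j hw hs T hT (fun i => (χ i).comp (Ideal.Quotient.mkₐ k p)) β fun i m => ?_
  show χ i (Ideal.Quotient.mk p (β m)) = _
  rw [hβ, ← AlgHom.comp_apply, hχ, MvPolynomial.aeval_X]

end Groth.Agent.H27CurveHilb
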