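import Groth.Agent.H27CurveHilb.TwoGen
import Groth.Agent.H27Staircase.Tensor
import Groth.Agent.H27HilbAff.Coord
import Mathlib

/-! # Punctual ideals at a point with two generators are cells -/

set_option autoImplicit false
set_option linter.style.haveILetI false

universe u

open TensorProduct MvPolynomial

namespace Groth.Agent.H27CurveHilb

open H27Fogarty (evPt)
open H27HilbAff (bc)
open H27Staircase

variable {k : Type u} [Field k] {B : Type u} [CommRing B] [Algebra k B] {L : Type u} [Field L] [Algebra k L]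

/-- Two elements generate the ideal of a point modulo its square. -/
def GenTwo (χ : B →ₐ[k] L) (b₁ b₂ : B) : Prop :=
  RingHom.ker (evPt χ) ≤ Ideal.span {gel χ b₁, gel χ b₂} ⊔ RingHom.ker (evPt χ) ^ 2

/-- The map from the plane given by two elements. -/
noncomputable def pl (χ : B →ₐ[k] L) (b₁ b₂ : B) : L ⊗[k] MvPolynomial (Fin 2) k →ₐ[L] L ⊗[k] B :=
  Algebra.TensorProduct.lift (Algebra.ofId L _) (MvPolynomial.aeval ![gel χ b₁, gel χ b₂])
    fun _ _ => Commute.all _ _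

lemma pl_tx (χ : B →ₐ[k] L) (b₁ b₂ : B) : pl χ b₁ b₂ (tx k L) = gel χ b₁ := by simp [pl, ← Algebra.TensorProduct.one_def]

lemma pl_ty (χ : B →ₐ[k] L) (b₁ b₂ : B) : pl χ b₁ b₂ (ty k L) = gel χ b₂ := by simp [pl, ← Algebra.TensorProduct.one_def]

/-- The ideal at a point with given cell parameters. -/
noncomputable def locIdeal (χ : B →ₐ[k] L) (b₁ b₂ : B) (N : ℕ) (l : List ℕ) (v : Idx l → L) : Ideal (L ⊗[k] B) :=
  RingHom.ker (evPt χ) ^ N ⊔ (ideal (tx k L) (ty k L) l v).map (pl χ b₁ b₂)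

lemma pow_le_locIdeal (χ : B →ₐ[k] L) (b₁ b₂ : B) (N : ℕ) (l : List ℕ) (v : Idx l → L) :
    RingHom.ker (evPt χ) ^ N ≤ locIdeal χ b₁ b₂ N l v := le_sup_left

section bc

variable {L' : Type u} [Field L'] [Algebra k L'] (σ : L →ₐ[k] L')

lemma bc_gel (χ : B →ₐ[k] L) (b : B) : bc σ (gel χ b) = gel (σ.comp χ) b := by
  simp [gel]

lemma map_ker_evPt (χ : B →ₐ[k] L) :
    (RingHom.ker (evPt χ)).map (bc σ) = RingHom.ker (evPt (σ.comp χ)) := by
  rw [ker_evPt_eq_span, ker_evPt_eq_span, Ideal.map_span, ← Set.range_comp]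
  exact congrArg Ideal.span (congrArg Set.range (funext (bc_gel σ χ)))

lemma GenTwo.map {χ : B →ₐ[k] L} {b₁ b₂ : B} (h : GenTwo χ b₁ b₂) : GenTwo (σ.comp χ) b₁ b₂ := by
  have h' := Ideal.map_mono (f := bc σ) h
  rwa [Ideal.map_sup, Ideal.map_pow, map_ker_evPt, Ideal.map_span, Set.image_pair, bc_gel, bc_gel] at h'

lemma bc_pl (χ : B →ₐ[k] L) (b₁ b₂ : B) (z : L ⊗[k] MvPolynomial (Fin 2) k) :
    bc σ (pl χ b₁ b₂ z) = pl (σ.comp χ) b₁ b₂ (bc σ z) := by
  induction z using TensorProduct.induction_on with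
  | zero => simp only [map_zero]
  | add x y hx hy => simp only [map_add, hx, hy]
  | tmul a p =>
    have e : ∀ q : MvPolynomial (Fin 2) k, bc σ (pl χ b₁ b₂ ((1 : L) ⊗ₜ q)) = pl (σ.comp χ) b₁ b₂ ((1 : L') ⊗ₜ q) := by
      intro q
      induction q using MvPolynomial.induction_on with
      | C r => simp [pl, Algebra.TensorProduct.algebraMap_apply]
      | add x y hx hy => simp only [TensorProduct.tmul_add, map_add, hx, hy]
      | mul_X x i hx =>
        rw [show ((1 : L) ⊗ₜ[k] (x * X i)) = (1 : L) ⊗ₜ[k] x * ((1 : L) ⊗ₜ[k] X i) by simp,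
          show ((1 : L') ⊗ₜ[k] (x * X i)) = (1 : L') ⊗ₜ[k] x * ((1 : L') ⊗ₜ[k] X i) by simp,
          map_mul, map_mul, map_mul, hx]
        fin_cases i <;> simp [pl, bc_gel]
    rw [show (a ⊗ₜ[k] p) = algebraMap L (L ⊗[k] MvPolynomial (Fin 2) k) a * ((1 : L) ⊗ₜ[k] p) by
        simp [Algebra.TensorProduct.algebraMap_apply],
      map_mul, map_mul, map_mul, map_mul, AlgHom.commutes, e]
    congr 1 <;> simp [pl, Algebra.TensorProduct.algebraMap_apply]

lemma map_locIdeal (χ : B →ₐ[k] L) (b₁ b₂ : B) (N : ℕ) (l : List ℕ) (v : Idx l → L) :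
    (locIdeal χ b₁ b₂ N l v).map (bc σ) = locIdeal (σ.comp χ) b₁ b₂ N l (σ ∘ v) := by
  obtain ⟨h, -, -⟩ := map_data (x := tx k L) (y := ty k L) σ.toRingHom
    (bc (B := MvPolynomial (Fin 2) k) σ) (fun a => by simp [Algebra.TensorProduct.algebraMap_apply]) l v
  simp only [H27HilbAff.bc_tmul, map_one] at h
  rw [locIdeal, locIdeal, Ideal.map_sup, Ideal.map_pow, map_ker_evPt]
  congr 1
  rw [show ideal (tx k L') (ty k L') l (σ ∘ v) = _ from h.symm]
  refine (Ideal.map_map _ _).trans (Eq.trans ?_ (Ideal.map_map _ _).symm)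
  exact congrArg (fun φ : _ →+* _ => Ideal.map φ _) (RingHom.ext fun z => bc_pl σ χ b₁ b₂ z)

end bc

variable {χ : B →ₐ[k] L} {b₁ b₂ : B}

lemma sub_scalar_mem (χ : B →ₐ[k] L) (z : L ⊗[k] B) :
    z - algebraMap L (L ⊗[k] B) (evPt χ z) ∈ RingHom.ker (evPt χ) := by
  rw [RingHom.mem_ker, map_sub, AlgHom.commutes, Algebra.algebraMap_self, RingHom.id_apply, sub_self]

/-- The plane surjects onto every infinitesimal neighbourhood. -/
theorem exists_sub_pl_mem (h : GenTwo χ b₁ b₂) (N : ℕ) (z : L ⊗[k] B) :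
    ∃ p, z - pl χ b₁ b₂ p ∈ RingHom.ker (evPt χ) ^ N := by
  set M := RingHom.ker (evPt χ) with hM
  set ψ := pl χ b₁ b₂
  have h1 : ∀ y ∈ M, ∃ q, y - ψ q ∈ M ^ 2 := by
    intro y hy
    obtain ⟨u, hu, w, hw, rfl⟩ := Submodule.mem_sup.1 (h hy)
    obtain ⟨c₁, c₂, rfl⟩ := Ideal.mem_span_pair.1 hu
    refine ⟨algebraMap L _ (evPt χ c₁) * tx k L + algebraMap L _ (evPt χ c₂) * ty k L, ?_⟩
    rw [map_add, map_mul, map_mul, AlgHom.commutes, AlgHom.commutes, pl_tx, pl_ty]
    have e : c₁ * gel χ b₁ + c₂ * gel χ b₂ + w -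
        (algebraMap L _ (evPt χ c₁) * gel χ b₁ + algebraMap L _ (evPt χ c₂) * gel χ b₂) =
        (c₁ - algebraMap L _ (evPt χ c₁)) * gel χ b₁ + (c₂ - algebraMap L _ (evPt χ c₂)) * gel χ b₂ + w := by
      ring
    rw [e]
    refine add_mem (add_mem ?_ ?_) hw <;> rw [pow_two] <;>
      exact Ideal.mul_mem_mul (sub_scalar_mem χ _) (gel_mem χ _)
  have hj : ∀ j, ∀ x ∈ M ^ j, ∃ p, x - ψ p ∈ M ^ (j + 1) := by
    intro j
    induction j with
    | zero =>
      intro x _
      exact ⟨algebraMap L _ (evPt χ x), by rw [AlgHom.commutes, zero_add, pow_one]; exact sub_scalar_mem χ x⟩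
    | succ j ih =>
      intro x hx
      rw [pow_succ] at hx
      refine Submodule.mul_induction_on hx (fun a ha b hb => ?_) fun a b ha hb => ?_
      · obtain ⟨p, hp⟩ := ih a ha
        obtain ⟨q, hq⟩ := h1 b hb
        refine ⟨p * q, ?_⟩
        rw [map_mul, show a * b - ψ p * ψ q = (a - ψ p) * b + ψ p * (b - ψ q) by ring]
        refine add_mem ?_ ?_
        · rw [pow_succ]; exact Ideal.mul_mem_mul hp hb
        · have hψp : ψ p ∈ M ^ j := by
            have := sub_mem ha (Ideal.pow_le_pow_right (Nat.le_succ j) hp)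
            rwa [sub_sub_cancel] at this
          rw [show j + 1 + 1 = j + 2 from rfl, pow_add]
          exact Ideal.mul_mem_mul hψp hq
      · obtain ⟨p, hp⟩ := ha
        obtain ⟨q, hq⟩ := hb
        exact ⟨p + q, by rw [map_add, add_sub_add_comm]; exact add_mem hp hq⟩
  induction N with
  | zero => exact ⟨0, by simp⟩
  | succ N ih =>
    obtain ⟨p, hp⟩ := ih
    obtain ⟨q, hq⟩ := hj N _ hp
    exact ⟨p + q, by rw [map_add, ← sub_sub]; exact hq⟩

/-- The infinitesimal neighbourhoods are finite. -/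
theorem finite_quot_pow (h : GenTwo χ b₁ b₂) (N : ℕ) :
    Module.Finite L ((L ⊗[k] B) ⧸ RingHom.ker (evPt χ) ^ N) := by
  set M := RingHom.ker (evPt χ) with hM
  set q := Ideal.Quotient.mkₐ L (M ^ N)
  let s : Set ((L ⊗[k] B) ⧸ M ^ N) := {q (gel χ b₁), q (gel χ b₂)}
  have hint : ∀ x ∈ s, IsIntegral L x := by
    have : ∀ b, IsIntegral L (q (gel χ b)) := fun b => by
      refine ⟨Polynomial.X ^ N, Polynomial.monic_X_pow N, ?_⟩
      rw [Polynomial.eval₂_X_pow, ← map_pow]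
      exact Ideal.Quotient.eq_zero_iff_mem.2 (Ideal.pow_mem_pow (gel_mem χ b) N)
    rintro x (rfl | rfl) <;> exact this _
  have hfg := fg_adjoin_of_finite (Set.toFinite s) hint
  have htop : Algebra.adjoin L s = ⊤ := by
    refine eq_top_iff.2 fun y _ => ?_
    obtain ⟨z, rfl⟩ := Ideal.Quotient.mk_surjective y
    obtain ⟨p, hp⟩ := exists_sub_pl_mem h N z
    rw [show Ideal.Quotient.mk (M ^ N) z = q (pl χ b₁ b₂ p) from Ideal.Quotient.eq.2 hp]
    clear hp
    induction p using TensorProduct.induction_on with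
    | zero => simp only [map_zero]; exact zero_mem _
    | add x y hx hy => rw [map_add, map_add]; exact add_mem hx hy
    | tmul a f =>
      rw [show (a ⊗ₜ[k] f) = algebraMap L (L ⊗[k] MvPolynomial (Fin 2) k) a * ((1 : L) ⊗ₜ[k] f) by
          simp [Algebra.TensorProduct.algebraMap_apply], map_mul, map_mul, AlgHom.commutes, AlgHom.commutes]
      refine mul_mem (Subalgebra.algebraMap_mem _ a) ?_
      induction f using MvPolynomial.induction_on with
      | C r =>
        have e : (1 : L) ⊗ₜ[k] (C r : MvPolynomial (Fin 2) k) = algebraMap L _ (algebraMap k L r) := by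
          rw [Algebra.TensorProduct.algebraMap_apply, Algebra.algebraMap_self, RingHom.id_apply,
            ← MvPolynomial.algebraMap_eq, Algebra.algebraMap_eq_smul_one, Algebra.algebraMap_eq_smul_one,
            TensorProduct.smul_tmul]
        rw [e, AlgHom.commutes, AlgHom.commutes]
        exact Subalgebra.algebraMap_mem _ _
      | add x y hx hy => rw [TensorProduct.tmul_add, map_add, map_add]; exact add_mem hx hy
      | mul_X x i hx =>
        rw [show ((1 : L) ⊗ₜ[k] (x * X i)) = (1 : L) ⊗ₜ[k] x * ((1 : L) ⊗ₜ[k] X i) by simp, map_mul, map_mul]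
        refine mul_mem hx ?_
        fin_cases i
        · show q (pl χ b₁ b₂ (tx k L)) ∈ _
          rw [pl_tx]; exact Algebra.subset_adjoin (Or.inl rfl)
        · show q (pl χ b₁ b₂ (ty k L)) ∈ _
          rw [pl_ty]; exact Algebra.subset_adjoin (Or.inr rfl)
  rw [htop, Algebra.top_toSubmodule] at hfg
  exact ⟨hfg⟩

lemma finite_quot_locIdeal (h : GenTwo χ b₁ b₂) (N : ℕ) (l : List ℕ) (v : Idx l → L) :
    Module.Finite L ((L ⊗[k] B) ⧸ locIdeal χ b₁ b₂ N l v) := by
  haveI := finite_quot_pow h N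
  exact Module.Finite.of_surjective (Ideal.Quotient.factorₐ L (pow_le_locIdeal χ b₁ b₂ N l v)).toLinearMap
    (Ideal.Quotient.factor_surjective (pow_le_locIdeal χ b₁ b₂ N l v))

lemma sum_eq_zero_of_hd : ∀ {l : List ℕ}, Dec l → hd l = 0 → l.sum = 0
  | [], _, _ => rfl
  | a :: l, h, h0 => by
    change a = 0 at h0
    subst h0
    simp [sum_eq_zero_of_hd h.2 (Nat.le_zero.1 h.1)]

lemma tail_sum_lt : ∀ {l : List ℕ}, Dec l → l.sum ≠ 0 → l.tail.sum < l.sum
  | [], _, h => absurd rfl h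
  | a :: l, h, h' => by
    have : a ≠ 0 := fun e => h' (sum_eq_zero_of_hd h e)
    simp
    omega

/-- A punctual ideal is a cell with fewer parameters than its colength. -/
theorem exists_cell_params (h : GenTwo χ b₁ b₂) {N : ℕ} (J : Ideal (L ⊗[k] B))
    (hN : RingHom.ker (evPt χ) ^ N ≤ J) (hJ : J ≠ ⊤) :
    ∃ (l : List ℕ) (v : Idx l → L), locIdeal χ b₁ b₂ N l v = J ∧
      Fintype.card (Idx l) < Module.finrank L ((L ⊗[k] B) ⧸ J) := by
  set ψ := pl χ b₁ b₂ with hψ
  let φ := (Ideal.Quotient.mkₐ L J).comp ψ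
  have hsurj : Function.Surjective φ := fun y => by
    obtain ⟨z, rfl⟩ := Ideal.Quotient.mk_surjective y
    obtain ⟨p, hp⟩ := exists_sub_pl_mem h N z
    exact ⟨p, (Ideal.Quotient.eq.2 (hN hp)).symm⟩
  have hker : RingHom.ker φ = J.comap ψ := by
    show RingHom.ker ((Ideal.Quotient.mk J).comp ψ.toRingHom) = _
    rw [← RingHom.comap_ker, Ideal.mk_ker]
    rfl
  obtain ⟨l, v, hlen, hdec, hl⟩ := exists_cell (isPlane_tensor k L) N (J.comap ψ)
    (by rw [Ideal.mem_comap, map_pow, hψ, pl_ty]; exact hN (Ideal.pow_mem_pow (gel_mem χ _) N)) N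
    (by rw [Ideal.mem_comap, map_pow, hψ, pl_tx]; exact hN (Ideal.pow_mem_pow (gel_mem χ _) N))
  obtain ⟨e⟩ := exists_equiv (isPlane_tensor k L) l hdec v
  let e' : (Fin l.sum → L) ≃ₗ[L] (L ⊗[k] B) ⧸ J :=
    e.symm ≪≫ₗ ((Ideal.quotientEquivAlgOfEq L (hl.trans hker.symm)).trans
      (Ideal.quotientKerAlgEquivOfSurjective hsurj)).toLinearEquiv
  have hfr : Module.finrank L ((L ⊗[k] B) ⧸ J) = l.sum := by
    rw [← e'.finrank_eq, Module.finrank_fintype_fun_eq_card, Fintype.card_fin]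
  refine ⟨l, v, le_antisymm ?_ fun z hz => ?_, ?_⟩
  · rw [locIdeal, sup_le_iff, hl]
    exact ⟨hN, Ideal.map_comap_le⟩
  · obtain ⟨p, hp⟩ := exists_sub_pl_mem h N z
    rw [← sub_add_cancel z (pl χ b₁ b₂ p)]
    refine add_mem (Ideal.mem_sup_left hp) (Ideal.mem_sup_right (Ideal.mem_map_of_mem _ ?_))
    rw [hl, Ideal.mem_comap]
    have := sub_mem hz (hN hp)
    rwa [sub_sub_cancel] at this
  · rw [card_idx, hfr]
    refine tail_sum_lt hdec fun h0 => hJ ?_
    haveI : Module.Finite L ((L ⊗[k] B) ⧸ J) := Module.Finite.equiv e'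
    rw [← Ideal.Quotient.subsingleton_iff, ← Module.finrank_zero_iff (R := L), hfr, h0]

end Groth.Agent.H27CurveHilb
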