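import Groth.Agent.H27CurveHilb.TwoGen
import Groth.Agent.H27CurveHilb.Local
import Groth.Agent.H27HilbAff.Affine
import Groth.Agent.H27CurveDiv.RelDim
import Groth.Agent.H22Alg.VarDim
import Groth.Prelude.Def_FGA
import Mathlib

/-! # Affine charts of a curve on a smooth surface -/

set_option autoImplicit false
set_option linter.style.haveILetI false
set_option backward.isDefEq.respectTransparency false
set_option backward.isDefEq.respectTransparency.types false

universe u

open CategoryTheory CategoryTheory.Limits AlgebraicGeometry CommRingCat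

namespace Groth.Agent.H27CurveHilb

open H27HilbAff
open Groth.Agent.H8Props.FieldDim (cdim exists_algebra_chart finiteType_of_chart cdim_eq_chart height_add_dim_quotient)

variable {k : Type u} [Field k] {S : Scheme.{u}} [IsIntegral S] (g : S ⟶ Spec (CommRingCat.of k))
  (I : S.IdealSheafData)

omit [IsIntegral S] in
/-- The chart of a closed subscheme. -/
theorem subchart (V : S.affineOpens) [Algebra k Γ(S, V.1)]
    (hV : V.2.fromSpec ≫ g = Spec.map (ofHom (algebraMap k Γ(S, V.1)))) :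
    IsOpenImmersion (I.subschemeCover.f V) ∧ I.subschemeCover.f V ≫ I.subschemeι ≫ g =
        fB (R := k) (B := Γ(S, V.1) ⧸ I.ideal V) (𝟙 (Spec (CommRingCat.of k))) ≫ 𝟙 _ ∧
      Set.range (I.subschemeCover.f V) = I.subschemeι ⁻¹' (V.1 : Set S) := by
  refine ⟨inferInstance, ?_, ?_⟩
  · rw [← Category.assoc, Scheme.IdealSheafData.subschemeCover_map_subschemeι,
      Scheme.IdealSheafData.glueDataObjι_ι, Category.assoc, hV]
    simp only [fB, Category.comp_id]
    erw [← Spec.map_comp]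
    rfl
  · exact congrArg (fun O : I.subscheme.Opens => (O : Set I.subscheme)) (I.opensRange_subschemeCover_map V)

/-- Affine opens of a surface: domains of finite type of dimension two. -/
theorem affine_surface [LocallyOfFiniteType g] (hdim : topologicalKrullDim S = 2) (V : S.affineOpens) [Nonempty V.1]
    [Algebra k Γ(S, V.1)] (hV : V.2.fromSpec ≫ g = Spec.map (ofHom (algebraMap k Γ(S, V.1)))) :
    Algebra.FiniteType k Γ(S, V.1) ∧ ringKrullDim Γ(S, V.1) = 2 := by
  haveI := finiteType_of_chart g (A := Γ(S, V.1)) V.2.fromSpec hV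
  refine ⟨inferInstance, le_antisymm ?_ ?_⟩
  · rw [← PrimeSpectrum.topologicalKrullDim_eq_ringKrullDim, ← hdim]
    exact V.2.fromSpec.isOpenEmbedding.isInducing.topologicalKrullDim_le
  · obtain ⟨x⟩ := (inferInstance : Nonempty V.1)
    obtain ⟨q, hq⟩ : genericPoint S ∈ Set.range V.2.fromSpec := by
      rw [V.2.range_fromSpec]
      exact ((genericPoint_spec S).specializes trivial).mem_open V.1.2 x.2
    have h1 := cdim_eq_chart g (A := Γ(S, V.1)) V.2.fromSpec q
    rw [hq] at h1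
    letI : S.Over (Spec (CommRingCat.of k)) := ⟨g⟩
    haveI : LocallyOfFiniteType (S ↘ Spec (CommRingCat.of k)) := ‹_›
    rw [H22Alg.VarDim.cdim_genericPoint, hdim] at h1
    exact h1.le.trans (ringKrullDim_quotient_le _)

/-- The ideal of a Cartier divisor does not vanish on any non-empty affine open. -/
theorem ideal_ne_bot (hI : FGA.IsEffCartier I) (V : S.affineOpens) [Nonempty V.1] : I.ideal V ≠ ⊥ := by
  intro h
  obtain ⟨x⟩ := (inferInstance : Nonempty V.1)
  obtain ⟨U, hxU, a, ha, hU⟩ := hI x.1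
  obtain ⟨W, hW, hxW, hWle⟩ := exists_isAffineOpen_mem_and_subset (x := x.1) (U := V.1 ⊓ U.1) ⟨x.2, hxU⟩
  haveI : Nonempty W := ⟨⟨x.1, hxW⟩⟩
  haveI : Nonempty U.1 := ⟨⟨x.1, hxU⟩⟩
  have hleV : (⟨W, hW⟩ : S.affineOpens) ≤ V := hWle.trans inf_le_left
  have hleU : (⟨W, hW⟩ : S.affineOpens) ≤ U := hWle.trans inf_le_right
  have h1 := I.map_ideal hleV
  have h2 := I.map_ideal hleU
  rw [h, Ideal.map_bot] at h1
  rw [hU, ← h1, Ideal.map_span, Set.image_singleton, Ideal.span_singleton_eq_bot] at h2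
  have h3 : a = 0 := map_injective_of_isIntegral S (homOfLE hleU) (h2.trans (map_zero _).symm)
  exact nonZeroDivisors.ne_zero ha h3

/-- A curve on a surface has dimension at most one on every chart. -/
theorem ringKrullDim_quotient_le_one [LocallyOfFiniteType g] (hdim : topologicalKrullDim S = 2)
    (hI : FGA.IsEffCartier I) (V : S.affineOpens) [Algebra k Γ(S, V.1)]
    (hV : V.2.fromSpec ≫ g = Spec.map (ofHom (algebraMap k Γ(S, V.1)))) :
    ringKrullDim (Γ(S, V.1) ⧸ I.ideal V) ≤ 1 := by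
  rcases isEmpty_or_nonempty V.1 with he | hne
  · haveI : IsEmpty (PrimeSpectrum Γ(S, V.1)) := ⟨fun q => he.false
      ⟨V.2.fromSpec q, V.2.range_fromSpec.subset ⟨q, rfl⟩⟩⟩
    haveI : Subsingleton Γ(S, V.1) := not_nontrivial_iff_subsingleton.1 fun _ =>
      IsEmpty.false (Classical.arbitrary (PrimeSpectrum Γ(S, V.1)))
    haveI : Subsingleton (Γ(S, V.1) ⧸ I.ideal V) := Ideal.Quotient.mk_surjective.subsingleton
    rw [ringKrullDim_eq_bot_of_subsingleton]
    exact bot_le
  · obtain ⟨hft, h2⟩ := affine_surface g hdim V hV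
    obtain ⟨a, haI, ha⟩ := Submodule.exists_mem_ne_zero_of_ne_bot (ideal_ne_bot I hI V)
    have h1 := ringKrullDim_quotient_succ_le_of_nonZeroDivisor (mem_nonZeroDivisors_of_ne_zero ha)
    have h3 : ringKrullDim (Γ(S, V.1) ⧸ I.ideal V) ≤ ringKrullDim (Γ(S, V.1) ⧸ Ideal.span {a}) :=
      ringKrullDim_le_of_surjective (Ideal.Quotient.factor ((Ideal.span_singleton_le_iff_mem _).2 haI))
        (Ideal.Quotient.factor_surjective _)
    refine h3.trans ?_
    rw [h2] at h1
    revert h1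
    cases ringKrullDim (Γ(S, V.1) ⧸ Ideal.span {a}) with
    | bot => simp
    | coe n =>
      intro h1
      cases n with
      | top => exact absurd h1 (by decide)
      | coe n =>
        have h4 : (((n + 1 : ℕ) : ℕ∞) : WithBot ℕ∞) ≤ (((2 : ℕ) : ℕ∞) : WithBot ℕ∞) := by push_cast; exact h1
        have : n + 1 ≤ 2 := ENat.coe_le_coe.1 (WithBot.coe_le_coe.1 h4)
        exact_mod_cast (by omega : n ≤ 1)

/-- A curve on a surface has a chart with a one dimensional component. -/
theorem exists_one_dim_component [LocallyOfFiniteType g] (hdim : topologicalKrullDim S = 2) (hI : FGA.IsEffCartier I)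
    [Nonempty I.subscheme] :
    ∃ (V : S.affineOpens) (_ : Algebra k Γ(S, V.1)),
      V.2.fromSpec ≫ g = Spec.map (ofHom (algebraMap k Γ(S, V.1))) ∧
      ∃ p : Ideal (Γ(S, V.1) ⧸ I.ideal V), p.IsPrime ∧ 1 ≤ ringKrullDim ((Γ(S, V.1) ⧸ I.ideal V) ⧸ p) := by
  obtain ⟨y⟩ := (inferInstance : Nonempty I.subscheme)
  obtain ⟨U, hyU, a, ha, hU⟩ := hI (I.subschemeι y)
  obtain ⟨alg, hV⟩ := exists_algebra_chart g (A := Γ(S, U.1)) U.2.fromSpec
  haveI : Nonempty U.1 := ⟨⟨_, hyU⟩⟩
  obtain ⟨hft, h2⟩ := affine_surface g hdim U hV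
  obtain ⟨-, -, hr⟩ := subchart g I U hV
  obtain ⟨q, -⟩ : y ∈ Set.range (I.subschemeCover.f U) := hr.symm ▸ hyU
  haveI : IsDomain Γ(S, U.1) := inferInstance
  have hne : I.ideal U ≠ ⊤ := fun h => by
    haveI : Subsingleton (Γ(S, U.1) ⧸ I.ideal U) := Ideal.Quotient.subsingleton_iff.2 h
    exact IsEmpty.false (α := PrimeSpectrum (Γ(S, U.1) ⧸ I.ideal U)) q
  obtain ⟨M, hM, hMle⟩ := Ideal.exists_le_maximal _ hne
  haveI := hM.isPrime
  obtain ⟨P, hP, -⟩ := Ideal.exists_minimalPrimes_le hMle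
  haveI := hP.1.1
  haveI : IsNoetherianRing Γ(S, U.1) := Algebra.FiniteType.isNoetherianRing k _
  have hh : P.height ≤ 1 := by
    haveI : (I.ideal U).IsPrincipal := ⟨⟨a, hU⟩⟩
    exact Ideal.height_le_one_of_isPrincipal_of_mem_minimalPrimes (I.ideal U) P hP
  have h3 := height_add_dim_quotient k Γ(S, U.1) P
  rw [h2] at h3
  have hp : 1 ≤ ringKrullDim (Γ(S, U.1) ⧸ P) := by
    haveI : Algebra.FiniteType k (Γ(S, U.1) ⧸ P) :=
      Algebra.FiniteType.trans (R := k) (S := Γ(S, U.1)) inferInstance inferInstance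
    obtain ⟨s, hs, -⟩ := Groth.Agent.H8Props.FieldDim.exists_dim_trdeg k (Γ(S, U.1) ⧸ P)
    rw [hs] at h3 ⊢
    obtain ⟨m, hm⟩ := ENat.ne_top_iff_exists.1 (ne_top_of_le_ne_top ENat.one_ne_top hh)
    rw [← hm] at h3 hh
    have hm1 : m ≤ 1 := by exact_mod_cast hh
    have h4 : (((m + s : ℕ) : ℕ∞) : WithBot ℕ∞) = (((2 : ℕ) : ℕ∞) : WithBot ℕ∞) := by push_cast; exact h3
    have : m + s = 2 := ENat.coe_inj.1 (WithBot.coe_inj.1 h4)
    exact_mod_cast (by omega : 1 ≤ s)
  refine ⟨U, alg, hV, P.map (Ideal.Quotient.mk (I.ideal U)), Ideal.isPrime_map_quotientMk_of_isPrime hP.1.2, ?_⟩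
  rwa [ringKrullDim_eq_of_ringEquiv (DoubleQuot.quotQuotEquivQuotOfLE hP.1.2)]

/-- Charts of a curve on a smooth surface have two generators at every point. -/
theorem genTwo_chart [Smooth g] (hdim : topologicalKrullDim S = 2) (V : S.affineOpens)
    [Algebra k Γ(S, V.1)] (hV : V.2.fromSpec ≫ g = Spec.map (ofHom (algebraMap k Γ(S, V.1))))
    (L : Type u) [Field L] [Algebra k L] (χ : (Γ(S, V.1) ⧸ I.ideal V) →ₐ[k] L) :
    ∃ b₁ b₂, GenTwo χ b₁ b₂ := by
  haveI := H27CurveDiv.smoothOfRelativeDimension_of_dim g 2 (by exact_mod_cast hdim)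
  haveI : SmoothOfRelativeDimension 2 (Spec.map (ofHom (algebraMap k Γ(S, V.1)))) :=
    hV ▸ IsZariskiLocalAtSource.comp (P := @SmoothOfRelativeDimension 2) ‹_› V.2.fromSpec
  exact exists_two (Ideal.Quotient.mkₐ k (I.ideal V)) Ideal.Quotient.mk_surjective
    ((HasRingHomProperty.Spec_iff (P := @SmoothOfRelativeDimension 2)).mp ‹_›) χ

end Groth.Agent.H27CurveHilb
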