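import Groth.Agent.H8Props.FieldDimRing
import Mathlib

/-! # Algebraic closures of finitely generated subfields, and points of curves -/

set_option autoImplicit false
set_option linter.style.haveILetI false

universe u

open IntermediateField

namespace Groth.Agent.H27CurveHilb

variable {k : Type u} [Field k] {L : Type u} [Field L] [Algebra k L]

variable (k) in
/-- The elements algebraic over the field generated by a set. -/
noncomputable def acl (T : Set L) : IntermediateField k L :=
  (algebraicClosure (adjoin k T) L).restrictScalars k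

lemma mem_acl {T : Set L} {x : L} : x ∈ acl k T ↔ IsAlgebraic (adjoin k T) x := by
  rw [acl, IntermediateField.mem_restrictScalars, mem_algebraicClosure_iff]

lemma subset_acl (T : Set L) : T ⊆ acl k T := fun x hx =>
  mem_acl.2 (isAlgebraic_algebraMap (⟨x, subset_adjoin k T hx⟩ : adjoin k T))

lemma acl_mono {T T' : Set L} (h : T ⊆ T') : acl k T ≤ acl k T' := fun x hx => by
  have hle : adjoin k T ≤ adjoin k T' := IntermediateField.adjoin.mono k T T' h
  letI := (IntermediateField.inclusion hle).toRingHom.toAlgebra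
  haveI : IsScalarTower (adjoin k T) (adjoin k T') L := IsScalarTower.of_algebraMap_eq fun _ => rfl
  exact mem_acl.2 ((mem_acl.1 hx).tower_top (adjoin k T'))

open scoped IntermediateField.algebraAdjoinAdjoin in
/-- The algebraic closure of a field generated by `d` elements has transcendence degree at most `d`. -/
theorem trdeg_acl_le (T : Set L) : Algebra.trdeg k (acl k T) ≤ Cardinal.mk T := by
  let f : acl k T →ₐ[k] algebraicClosure (adjoin k T) L :=
    { toFun := fun x => ⟨x.1, x.2⟩
      map_one' := rfl
      map_mul' := fun _ _ => rfl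
      map_zero' := rfl
      map_add' := fun _ _ => rfl
      commutes' := fun _ => rfl }
  refine (trdeg_le_of_injective f fun x y h => Subtype.ext (congrArg (fun z : algebraicClosure (adjoin k T) L => (z : L)) h)).trans ?_
  rw [← trdeg_add_eq k (adjoin k T) (A := algebraicClosure (adjoin k T) L), trdeg_eq_zero
    (R := adjoin k T), add_zero]
  haveI : Algebra.IsAlgebraic (Algebra.adjoin k T) (adjoin k T) :=
    IsLocalization.isAlgebraic _ (nonZeroDivisors (Algebra.adjoin k T))
  rw [← trdeg_add_eq k (Algebra.adjoin k T) (A := adjoin k T), trdeg_eq_zero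
    (R := Algebra.adjoin k T), add_zero]
  let g : MvPolynomial T k →ₐ[k] Algebra.adjoin k T :=
    MvPolynomial.aeval fun t => ⟨t.1, Algebra.subset_adjoin t.2⟩
  have hg : Function.Surjective g := fun y => by
    obtain ⟨p, hp⟩ := (Algebra.adjoin_eq_range k T).le y.2
    refine ⟨p, Subtype.ext (Eq.trans ?_ hp)⟩
    exact (DFunLike.congr_fun (MvPolynomial.comp_aeval (fun t : T =>
      (⟨t.1, Algebra.subset_adjoin t.2⟩ : Algebra.adjoin k T)) (Algebra.adjoin k T).val) p :)
  refine (trdeg_le_of_surjective g hg).trans ?_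
  simp [MvPolynomial.trdeg_of_isDomain]

/-- The field generated by the image of a point of an algebra of dimension at most one is algebraic over one
element. -/
theorem exists_acl_singleton {B : Type u} [CommRing B] [Algebra k B] [Algebra.FiniteType k B]
    (hB : ringKrullDim B ≤ 1) (χ : B →ₐ[k] L) : ∃ t : L, ∀ b, χ b ∈ acl k {t} := by
  let p := RingHom.ker χ
  haveI : p.IsPrime := RingHom.ker_isPrime χ
  haveI : Algebra.FiniteType k (B ⧸ p) := Algebra.FiniteType.trans (R := k) (S := B) inferInstance inferInstance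
  obtain ⟨s, g, hg, hfin⟩ := exists_finite_inj_algHom_of_fg k (B ⧸ p)
  letI := g.toRingHom.toAlgebra
  haveI : Module.Finite (MvPolynomial (Fin s) k) (B ⧸ p) := hfin
  have hs : s ≤ 1 := by
    have h1 := (H05EGA4.dim_int (MvPolynomial (Fin s) k) (B ⧸ p)).2 hg
    rw [MvPolynomial.ringKrullDim_of_isNoetherianRing, ringKrullDim_eq_zero_of_field] at h1
    have h2 := (ringKrullDim_le_of_surjective (Ideal.Quotient.mk p) Ideal.Quotient.mk_surjective).trans hB
    rw [h1] at h2
    simpa using h2
  let χ' : B ⧸ p →ₐ[k] L := Ideal.Quotient.liftₐ p χ fun a ha => ha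
  haveI : Subsingleton (Fin s) := Fin.subsingleton_iff_le_one.2 hs
  obtain ⟨t, ht⟩ : ∃ t : L, ∀ i : Fin s, χ' (g (MvPolynomial.X i)) = t := by
    rcases isEmpty_or_nonempty (Fin s) with h | ⟨⟨i⟩⟩
    · exact ⟨0, fun i => h.elim i⟩
    · exact ⟨χ' (g (MvPolynomial.X i)), fun j => by rw [Subsingleton.elim j i]⟩
  refine ⟨t, fun b => ?_⟩
  have hrange : ∀ P, χ' (g P) ∈ adjoin k {t} := fun P => by
    induction P using MvPolynomial.induction_on with
    | C r =>
      rw [← MvPolynomial.algebraMap_eq, g.commutes, χ'.commutes]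
      exact IntermediateField.algebraMap_mem _ r
    | add P Q hP hQ => rw [map_add, map_add]; exact add_mem hP hQ
    | mul_X P i hP =>
      rw [map_mul, map_mul, ht i]
      exact mul_mem hP (subset_adjoin k _ rfl)
  obtain ⟨P, hP, hPb⟩ := Algebra.IsIntegral.isIntegral (R := MvPolynomial (Fin s) k) (Ideal.Quotient.mk p b)
  let φ : MvPolynomial (Fin s) k →+* adjoin k {t} := (χ'.comp g).toRingHom.codRestrict _ hrange
  refine mem_acl.2 (IsIntegral.isAlgebraic ⟨P.map φ, hP.map _, ?_⟩)
  rw [Polynomial.eval₂_map, show (algebraMap (adjoin k {t}) L).comp φ = χ'.toRingHom.comp g.toRingHom from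
    RingHom.ext fun _ => rfl]
  show Polynomial.eval₂ (χ'.toRingHom.comp g.toRingHom) (χ'.toRingHom (Ideal.Quotient.mk p b)) P = 0
  rw [← Polynomial.hom_eval₂]
  show χ'.toRingHom (Polynomial.eval₂ (algebraMap (MvPolynomial (Fin s) k) (B ⧸ p)) (Ideal.Quotient.mk p b) P) = 0
  rw [hPb, map_zero]

end Groth.Agent.H27CurveHilb
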