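import Groth.Agent.H27CurveHilb.Local
import Groth.Agent.H27CurveHilb.Field
import Groth.Agent.H27Fogarty.Family
import Mathlib

/-! # Finite subschemes of a planar curve are defined over fields of small transcendence degree -/

set_option autoImplicit false
set_option linter.style.haveILetI false
set_option backward.isDefEq.respectTransparency false
set_option backward.isDefEq.respectTransparency.types false

universe u

open TensorProduct

namespace Groth.Agent.H27CurveHilb

open H27Fogarty (evPt)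
open H27HilbAff (bc)
open H27Staircase

variable {k : Type u} [Field k] {B : Type u} [CommRing B] [Algebra k B]

lemma isMaximal_ker_evPt {L : Type u} [Field L] [Algebra k L] (χ : B →ₐ[k] L) :
    (RingHom.ker (evPt χ)).IsMaximal :=
  RingHom.ker_isMaximal_of_surjective _ fun c => ⟨c ⊗ₜ (1 : B), by simp⟩

lemma ker_evPt_injective {L : Type u} [Field L] [Algebra k L] {χ χ' : B →ₐ[k] L}
    (h : RingHom.ker (evPt χ) = RingHom.ker (evPt χ')) : χ = χ' := by
  ext b
  have := h ▸ gel_mem χ b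
  rw [RingHom.mem_ker] at this
  simp [gel, sub_eq_zero] at this
  exact this.symm

lemma pairwise_coprime_locIdeal {L : Type u} [Field L] [Algebra k L] {ι : Type*} (χ : ι → (B →ₐ[k] L))
    (hχ : Function.Injective χ) (N : ℕ) (J : ι → Ideal (L ⊗[k] B))
    (hJ : ∀ i, RingHom.ker (evPt (χ i)) ^ N ≤ J i) :
    Pairwise fun i j => IsCoprime (J i) (J j) := fun i j hij => by
  have h : IsCoprime (RingHom.ker (evPt (χ i)) ^ N) (RingHom.ker (evPt (χ j)) ^ N) := by
    haveI := isMaximal_ker_evPt (χ i)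
    haveI := isMaximal_ker_evPt (χ j)
    refine IsCoprime.pow (Ideal.isCoprime_iff_sup_eq.2 ?_)
    exact Ideal.IsMaximal.coprime_of_ne inferInstance inferInstance fun e => hij (hχ (ker_evPt_injective e))
  show IsCoprime (J i) (J j)
  rw [Ideal.isCoprime_iff_sup_eq] at h ⊢
  exact top_le_iff.1 (h ▸ sup_le_sup (hJ i) (hJ j))

/-- A quotient by a product of comaximal ideals of finite colength. -/
theorem finite_quot_prod {L R : Type u} [Field L] [CommRing R] [Algebra L R] {ι : Type} [Fintype ι]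
    (J : ι → Ideal R) (hJ : Pairwise fun i j => IsCoprime (J i) (J j))
    [∀ i, Module.Finite L (R ⧸ J i)] :
    Module.Finite L (R ⧸ ∏ i, J i) ∧ Module.finrank L (R ⧸ ∏ i, J i) = ∑ i, Module.finrank L (R ⧸ J i) := by
  have hprod : ∏ i, J i = ⨅ i, J i := by
    rw [Ideal.prod_eq_iInf_of_pairwise_isCoprime fun i _ j _ hij => hJ hij]
    simp
  let e := Ideal.quotientInfRingEquivPiQuotient J hJ
  have he : ∀ z : R, e (Ideal.Quotient.mk _ z) = fun i => Ideal.Quotient.mk (J i) z := fun z => rfl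
  let e' : (R ⧸ ∏ i, J i) ≃ₗ[L] ((i : ι) → R ⧸ J i) :=
    (Ideal.quotientEquivAlgOfEq L hprod).toLinearEquiv ≪≫ₗ
      (AlgEquiv.ofRingEquiv (f := e) fun c => he (algebraMap L R c)).toLinearEquiv
  exact ⟨Module.Finite.equiv e'.symm, e'.finrank_eq.trans (Module.finrank_pi_fintype L)⟩

section points

variable {K : Type u} [Field K] [Algebra k K] [IsAlgClosed K] (J : Ideal (K ⊗[k] B))
  [Module.Finite K ((K ⊗[k] B) ⧸ J)]

/-- A finite subscheme over an algebraically closed field is the product of its parts at its points. -/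
theorem exists_decomposition :
    ∃ (r N : ℕ) (χ : Fin r → (B →ₐ[k] K)), Function.Injective χ ∧
      (∀ i, J ⊔ RingHom.ker (evPt (χ i)) ^ N ≠ ⊤) ∧
      ∏ i, (J ⊔ RingHom.ker (evPt (χ i)) ^ N) = J := by
  classical
  let Q := (K ⊗[k] B) ⧸ J
  haveI : IsArtinianRing Q := IsArtinianRing.of_finite K Q
  haveI := Fintype.ofFinite (MaximalSpectrum Q)
  let e := (Fintype.equivFin (MaximalSpectrum Q)).symm
  have hpt : ∀ m : MaximalSpectrum Q, ∃ φ : Q →ₐ[K] K, RingHom.ker φ = m.asIdeal := by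
    intro m
    haveI := m.isMaximal
    letI := Ideal.Quotient.field m.asIdeal
    haveI : Module.Finite K (Q ⧸ m.asIdeal) :=
      Module.Finite.of_surjective (Ideal.Quotient.mkₐ K m.asIdeal).toLinearMap Ideal.Quotient.mk_surjective
    haveI : Algebra.IsIntegral K (Q ⧸ m.asIdeal) := Algebra.IsIntegral.of_finite K _
    let ε := AlgEquiv.ofBijective (Algebra.ofId K (Q ⧸ m.asIdeal)) IsAlgClosed.algebraMap_bijective_of_isIntegral
    refine ⟨ε.symm.toAlgHom.comp (Ideal.Quotient.mkₐ K m.asIdeal), ?_⟩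
    ext a
    rw [RingHom.mem_ker]
    show ε.symm (Ideal.Quotient.mk _ a) = 0 ↔ _
    rw [map_eq_zero_iff _ ε.symm.injective, Ideal.Quotient.eq_zero_iff_mem]
  choose φ hφ using hpt
  let χ : Fin (Fintype.card (MaximalSpectrum Q)) → (B →ₐ[k] K) := fun i =>
    (((φ (e i)).restrictScalars k).comp (Ideal.Quotient.mkₐ k J)).comp Algebra.TensorProduct.includeRight
  have hev : ∀ i, evPt (χ i) = (φ (e i)).comp (Ideal.Quotient.mkₐ K J) := fun i => by
    refine Algebra.TensorProduct.ext (Subsingleton.elim _ _) (AlgHom.ext fun b => ?_)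
    simp [χ]
    rfl
  have hM : ∀ i, RingHom.ker (evPt (χ i)) = ((e i).asIdeal).comap (Ideal.Quotient.mk J) := fun i => by
    rw [hev, ← hφ (e i)]
    exact (RingHom.comap_ker (φ (e i)).toRingHom (Ideal.Quotient.mk J)).symm
  have hJM : ∀ i, J ≤ RingHom.ker (evPt (χ i)) := fun i z hz => by
    rw [hM, Ideal.mem_comap, Ideal.Quotient.eq_zero_iff_mem.2 hz]
    exact zero_mem _
  have hinj : Function.Injective χ := fun i j h => by
    refine e.injective (MaximalSpectrum.ext (Ideal.comap_injective_of_surjective _ Ideal.Quotient.mk_surjective ?_))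
    rw [← hM, ← hM, h]
  obtain ⟨N, hN⟩ := IsArtinianRing.isNilpotent_jacobson_bot (R := Q)
  have hpow : ∏ i, RingHom.ker (evPt (χ i)) ^ (N + 1) ≤ J := by
    rw [Finset.prod_pow]
    refine le_trans ?_ (le_of_eq (Ideal.mk_ker (I := J)))
    rw [RingHom.ker_eq_comap_bot, ← Ideal.map_le_iff_le_comap, Ideal.map_pow]
    have hle : (∏ i, RingHom.ker (evPt (χ i))).map (Ideal.Quotient.mk J) ≤ Ideal.jacobson ⊥ := by
      rw [Ideal.jacobson]
      refine le_sInf fun m hm => ?_
      obtain ⟨i, hi⟩ := e.surjective ⟨m, hm.2⟩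
      rw [Ideal.map_le_iff_le_comap]
      refine le_trans (Ideal.prod_le_inf.trans (Finset.inf_le (Finset.mem_univ i))) ?_
      rw [hM, hi]
    exact (Ideal.pow_right_mono hle _).trans ((Ideal.pow_le_pow_right (Nat.le_succ N)).trans (le_of_eq hN))
  refine ⟨_, N + 1, χ, hinj, fun i h => ?_, le_antisymm ?_ ?_⟩
  · haveI := isMaximal_ker_evPt (χ i)
    exact (inferInstance : (RingHom.ker (evPt (χ i))).IsMaximal).ne_top
      (top_le_iff.1 (h ▸ sup_le (hJM i) (Ideal.pow_le_self (Nat.succ_ne_zero N))))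
  · intro z hz
    rw [← Ideal.Quotient.eq_zero_iff_mem]
    have h1 := Ideal.mem_map_of_mem (Ideal.Quotient.mk J) hz
    rw [← Ideal.mapHom_apply, map_prod] at h1
    simp only [Ideal.mapHom_apply, Ideal.map_sup, Ideal.map_quotient_self, bot_sup_eq] at h1
    simp only [← Ideal.mapHom_apply, ← map_prod] at h1
    rw [Ideal.mapHom_apply] at h1
    have h2 := Ideal.map_mono (f := Ideal.Quotient.mk J) hpow h1
    rwa [Ideal.map_quotient_self, Ideal.mem_bot] at h2
  · have hco := pairwise_coprime_locIdeal χ hinj (N + 1) (fun i => J ⊔ RingHom.ker (evPt (χ i)) ^ (N + 1))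
      fun i => le_sup_right
    rw [Ideal.prod_eq_iInf_of_pairwise_isCoprime fun i _ j _ hij => hco hij]
    exact le_iInf₂ fun i _ => le_sup_left

end points

/-- Descending the local parts to a field containing the parameters. -/
theorem exists_descent {K : Type u} [Field K] [Algebra k K] {F : Type u} [Field F] [Algebra k F] (σ : F →ₐ[k] K)
    {r N : ℕ} (χ : Fin r → (B →ₐ[k] F)) (hinj : Function.Injective χ) (b₁ b₂ : Fin r → B)
    (hgen : ∀ i, GenTwo (χ i) (b₁ i) (b₂ i)) (l : Fin r → List ℕ) (v : ∀ i, Idx (l i) → F)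
    (J : Ideal (K ⊗[k] B)) {d : ℕ} (hd : Module.finrank K ((K ⊗[k] B) ⧸ J) = d)
    (hJ : ∏ i, locIdeal (σ.comp (χ i)) (b₁ i) (b₂ i) N (l i) (σ ∘ v i) = J) :
    ∃ J₀ : Ideal (F ⊗[k] B), (Module.Finite F ((F ⊗[k] B) ⧸ J₀) ∧ Module.Free F ((F ⊗[k] B) ⧸ J₀) ∧
        Module.finrank F ((F ⊗[k] B) ⧸ J₀) = d) ∧ J₀.map (bc σ) = J := by
  let J' : Fin r → Ideal (F ⊗[k] B) := fun i => locIdeal (χ i) (b₁ i) (b₂ i) N (l i) (v i)
  haveI : ∀ i, Module.Finite F ((F ⊗[k] B) ⧸ J' i) := fun i => finite_quot_locIdeal (hgen i) N (l i) (v i)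
  obtain ⟨hf, -⟩ := finite_quot_prod (L := F) J'
    (pairwise_coprime_locIdeal χ hinj N J' fun i => pow_le_locIdeal _ _ _ _ _ _)
  haveI := hf
  have hmap : (∏ i, J' i).map (bc σ) = J := by
    rw [← Ideal.mapHom_apply, map_prod]
    refine Eq.trans (Finset.prod_congr rfl fun i _ => ?_) hJ
    rw [Ideal.mapHom_apply, map_locIdeal]
  refine ⟨∏ i, J' i, ⟨inferInstance, inferInstance, ?_⟩, hmap⟩
  obtain ⟨-, -, h⟩ := H27Fogarty.map_rank (∏ i, J' i) ⟨inferInstance, inferInstance, rfl⟩ σ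
  rw [(Ideal.quotientEquivAlgOfEq K hmap).toLinearEquiv.finrank_eq, hd] at h
  exact h.symm

/-- The main bound: a finite subscheme of degree `d` is defined over a subfield of transcendence degree at most
`d`. -/
theorem exists_field_of_definition [Algebra.FiniteType k B] (hdim : ringKrullDim B ≤ 1)
    (htwo : ∀ (L : Type u) [Field L] [Algebra k L] (χ : B →ₐ[k] L), ∃ b₁ b₂, GenTwo χ b₁ b₂)
    {K : Type u} [Field K] [Algebra k K] [IsAlgClosed K] (J : Ideal (K ⊗[k] B))
    [Module.Finite K ((K ⊗[k] B) ⧸ J)] {d : ℕ} (hd : Module.finrank K ((K ⊗[k] B) ⧸ J) = d) :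
    ∃ (F : Type u) (_ : Field F) (_ : Algebra k F) (σ : F →ₐ[k] K), Algebra.trdeg k F ≤ (d : Cardinal.{u}) ∧
      ∃ J₀ : Ideal (F ⊗[k] B), (Module.Finite F ((F ⊗[k] B) ⧸ J₀) ∧ Module.Free F ((F ⊗[k] B) ⧸ J₀) ∧
        Module.finrank F ((F ⊗[k] B) ⧸ J₀) = d) ∧ J₀.map (bc σ) = J := by
  classical
  obtain ⟨r, N, χ, hinj, hne, hprod⟩ := exists_decomposition J
  choose t ht using fun i => exists_acl_singleton hdim (χ i)
  let χ₁ : ∀ i, B →ₐ[k] acl k {t i} := fun i => (χ i).codRestrict (acl k {t i}).toSubalgebra (ht i)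
  choose b₁ b₂ hgen₁ using fun i => htwo _ (χ₁ i)
  have hgen : ∀ i, GenTwo (χ i) (b₁ i) (b₂ i) := fun i => by
    have h := (hgen₁ i).map (acl k {t i}).val
    rwa [show (acl k {t i}).val.comp (χ₁ i) = χ i from AlgHom.ext fun _ => rfl] at h
  haveI hfinJ : ∀ i, Module.Finite K ((K ⊗[k] B) ⧸ (J ⊔ RingHom.ker (evPt (χ i)) ^ N)) := fun i =>
    Module.Finite.of_surjective (Ideal.Quotient.factorₐ K (le_sup_left (a := J))).toLinearMap
      (Ideal.Quotient.factor_surjective le_sup_left)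
  choose l v hloc hcard using fun i => exists_cell_params (hgen i) _ (le_sup_right (a := J)) (hne i)
  let x : (Σ i : Fin r, Option (Idx (l i))) → K := fun p => p.2.elim (t p.1) (v p.1)
  let T : Finset K := Finset.univ.image x
  have hTd : T.card ≤ d := by
    refine Finset.card_image_le.trans ?_
    rw [Finset.card_univ, Fintype.card_sigma]
    simp only [Fintype.card_option]
    rw [← hd]
    have hco := pairwise_coprime_locIdeal χ hinj N (fun i => J ⊔ RingHom.ker (evPt (χ i)) ^ N) fun i => le_sup_right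
    have := (finite_quot_prod (L := K) _ hco).2
    rw [(Ideal.quotientEquivAlgOfEq K hprod).toLinearEquiv.finrank_eq] at this
    rw [this]
    exact Finset.sum_le_sum fun i _ => hcard i
  let F := acl k (T : Set K)
  have hxT : ∀ p, x p ∈ (T : Set K) := fun p => Finset.mem_image_of_mem x (Finset.mem_univ p)
  have hle : ∀ i, acl k {t i} ≤ F := fun i =>
    acl_mono (Set.singleton_subset_iff.2 (hxT ⟨i, none⟩))
  let χF : Fin r → (B →ₐ[k] F) := fun i => (IntermediateField.inclusion (hle i)).comp (χ₁ i)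
  have hgenF : ∀ i, GenTwo (χF i) (b₁ i) (b₂ i) := fun i => (hgen₁ i).map _
  have hχF : ∀ i, F.val.comp (χF i) = χ i := fun i => AlgHom.ext fun _ => rfl
  let vF : ∀ i, Idx (l i) → F := fun i a => ⟨v i a, subset_acl _ (hxT ⟨i, some a⟩)⟩
  have hinjF : Function.Injective χF := fun i j h => hinj (by rw [← hχF i, ← hχF j, h])
  refine ⟨F, inferInstance, inferInstance, F.val,
    (trdeg_acl_le _).trans ?_, ?_⟩
  · simp only [Finset.coe_sort_coe, Cardinal.mk_coe_finset]
    exact_mod_cast hTd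
  refine exists_descent (N := N) F.val χF hinjF b₁ b₂ hgenF l vF J hd (Eq.trans (Finset.prod_congr rfl fun i _ => ?_) hprod)
  rw [hχF, ← hloc i]
  rfl

end Groth.Agent.H27CurveHilb
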