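import Groth.Agent.H27Fogarty.Hyper
import Mathlib

/-! # Rational points of closed subschemes of smooth surfaces have two dimensional cotangent spaces -/

set_option autoImplicit false
set_option linter.style.haveILetI false

universe u

open TensorProduct
open scoped KaehlerDifferential

namespace Groth.Agent.H27CurveHilb

open H27Fogarty (evPt)

variable {k : Type u} [Field k] {B L : Type u} [CommRing B] [Algebra k B] [Field L] [Algebra k L]

/-- The standard element of the ideal of a point. -/
noncomputable def gel (χ : B →ₐ[k] L) (b : B) : L ⊗[k] B := (1 : L) ⊗ₜ[k] b - χ b ⊗ₜ[k] (1 : B)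

lemma gel_mem (χ : B →ₐ[k] L) (b : B) : gel χ b ∈ RingHom.ker (evPt χ) := by
  simp [gel, RingHom.mem_ker]

/-- The ideal of a point is generated by the standard elements. -/
theorem ker_evPt_eq_span (χ : B →ₐ[k] L) :
    RingHom.ker (evPt χ) = Ideal.span (Set.range (gel χ)) := by
  refine le_antisymm (fun z hz => ?_) (Ideal.span_le.2 ?_)
  · have key : ∀ w, w - algebraMap L (L ⊗[k] B) (evPt χ w) ∈ Ideal.span (Set.range (gel χ)) := by
      intro w
      induction w using TensorProduct.induction_on with
      | zero => simp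
      | tmul c b =>
        have e : c ⊗ₜ[k] b - algebraMap L (L ⊗[k] B) (evPt χ (c ⊗ₜ[k] b)) = c ⊗ₜ[k] (1 : B) * gel χ b := by
          simp [gel, mul_sub, Algebra.TensorProduct.algebraMap_apply]
        rw [e]
        exact Ideal.mul_mem_left _ _ (Ideal.subset_span ⟨b, rfl⟩)
      | add x y hx hy =>
        rw [map_add, map_add, add_sub_add_comm]
        exact add_mem hx hy
    have := key z
    rwa [RingHom.mem_ker.1 hz, map_zero, sub_zero] at this
  · rintro _ ⟨b, rfl⟩
    exact gel_mem χ b

lemma gel_mul (χ : B →ₐ[k] L) (b b' : B) :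
    gel χ (b * b') = χ b ⊗ₜ[k] (1 : B) * gel χ b' + χ b' ⊗ₜ[k] (1 : B) * gel χ b + gel χ b * gel χ b' := by
  simp only [gel, mul_sub, sub_mul, Algebra.TensorProduct.tmul_mul_tmul, map_mul, one_mul, mul_one,
    mul_comm (χ b') (χ b)]
  abel

lemma gel_add (χ : B →ₐ[k] L) (b b' : B) : gel χ (b + b') = gel χ b + gel χ b' := by
  simp only [gel, map_add, TensorProduct.tmul_add, TensorProduct.add_tmul]
  abel

lemma gel_smul (χ : B →ₐ[k] L) (r : k) (b : B) : gel χ (r • b) = r • gel χ b := by
  simp only [gel, map_smul, smul_sub, TensorProduct.tmul_smul, TensorProduct.smul_tmul']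

/-- The ideal of a point of a quotient of a smooth algebra of relative dimension two has two generators modulo
its square. -/
theorem exists_two {A : Type u} [CommRing A] [Algebra k A] (π : A →ₐ[k] B) (hπ : Function.Surjective π)
    (hA : RingHom.Locally (RingHom.IsStandardSmoothOfRelativeDimension 2) (algebraMap k A)) (χ : B →ₐ[k] L) :
    ∃ b₁ b₂ : B, RingHom.ker (evPt χ) ≤ Ideal.span {gel χ b₁, gel χ b₂} ⊔ RingHom.ker (evPt χ) ^ 2 := by
  classical
  set M := RingHom.ker (evPt χ) with hM
  -- a standard smooth neighbourhood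
  haveI : (RingHom.ker (χ.comp π)).IsPrime := RingHom.ker_isPrime _
  obtain ⟨s, hs, hst⟩ := hA
  obtain ⟨t, hts, htp⟩ : ∃ t ∈ s, t ∉ RingHom.ker (χ.comp π) := by
    by_contra h
    simp only [not_exists, not_and, not_not] at h
    exact (inferInstance : (RingHom.ker (χ.comp π)).IsPrime).ne_top (top_le_iff.1 (hs ▸ Ideal.span_le.2 h))
  haveI : Algebra.IsStandardSmoothOfRelativeDimension 2 k (Localization.Away t) := by
    have h := hst t hts
    rw [← IsScalarTower.algebraMap_eq k A (Localization.Away t)] at h
    exact (RingHom.isStandardSmoothOfRelativeDimension_algebraMap 2).1 h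
  have hχt : χ (π t) ≠ 0 := fun h => htp (RingHom.mem_ker.2 h)
  haveI : Nontrivial (Localization.Away t) := by
    refine RingHom.domain_nontrivial (IsLocalization.Away.lift t (g := (χ.comp π).toRingHom) ?_)
    exact isUnit_iff_ne_zero.2 hχt
  haveI : Algebra.IsStandardSmooth k (Localization.Away t) :=
    Algebra.IsStandardSmoothOfRelativeDimension.isStandardSmooth 2
  have hr : Module.finrank (Localization.Away t) Ω[Localization.Away t⁄k] = 2 :=
    Module.finrank_eq_of_rank_eq (Algebra.IsStandardSmoothOfRelativeDimension.rank_kaehlerDifferential 2)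
  haveI : Module.Finite (Localization.Away t) Ω[Localization.Away t⁄k] :=
    Module.finite_of_finrank_eq_succ hr
  let bas := Module.finBasisOfFinrankEq _ _ hr
  -- derivation
  let Q := (L ⊗[k] B) ⧸ M ^ 2
  letI : Module A Q := Module.compHom Q (χ.comp π).toRingHom
  have hsmul : ∀ (a : A) (q : Q), a • q = χ (π a) • q := fun a q => rfl
  haveI : IsScalarTower k A Q := ⟨fun r a q => by
    rw [hsmul, hsmul, map_smul, map_smul, smul_assoc]⟩
  let D : Derivation k A Q := Derivation.mk'
    { toFun := fun a => Ideal.Quotient.mk (M ^ 2) (gel χ (π a))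
      map_add' := fun a a' => by rw [map_add, gel_add, map_add]
      map_smul' := fun r a => by
        rw [map_smul, gel_smul, RingHom.id_apply]
        rfl }
    fun a a' => by
      show Ideal.Quotient.mk (M ^ 2) (gel χ (π (a * a'))) =
        a • Ideal.Quotient.mk (M ^ 2) (gel χ (π a')) + a' • Ideal.Quotient.mk (M ^ 2) (gel χ (π a))
      rw [map_mul, gel_mul, map_add, map_add, hsmul, hsmul]
      have h0 : Ideal.Quotient.mk (M ^ 2) (gel χ (π a) * gel χ (π a')) = 0 := by
        rw [Ideal.Quotient.eq_zero_iff_mem, pow_two]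
        exact Ideal.mul_mem_mul (gel_mem χ _) (gel_mem χ _)
      rw [h0, add_zero, Algebra.smul_def, Algebra.smul_def]
      rfl
  let ℓ := D.liftKaehlerDifferential
  have hℓ : ∀ a, ℓ (KaehlerDifferential.D k A a) = Ideal.Quotient.mk (M ^ 2) (gel χ (π a)) :=
    fun a => D.liftKaehlerDifferential_comp_D a
  -- two vectors spanning the differentials near the point
  let loc := KaehlerDifferential.map k k A (Localization.Away t)
  haveI : IsLocalizedModule (Submonoid.powers t) loc := inferInstance
  choose x hx using fun i => IsLocalizedModule.surj (Submonoid.powers t) loc (bas i)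
  have hmem : ∀ w : Ω[A⁄k], ℓ w ∈ Submodule.span L (Set.range fun i => ℓ (x i).1) := by
    intro w
    choose c hc using fun i => IsLocalization.surj (Submonoid.powers t) (bas.repr (loc w) i)
    let den : A := (∏ i, ((c i).2 : A)) * ∏ i, ((x i).2 : A)
    let co : Fin 2 → A := fun i =>
      (c i).1 * (∏ j ∈ Finset.univ.erase i, ((c j).2 : A)) * ∏ j ∈ Finset.univ.erase i, ((x j).2 : A)
    have e : loc (den • w) = loc (∑ i, co i • (x i).1) := by
      have e1 : den • loc w = ∑ i, (den • (bas.repr (loc w) i • bas i)) := by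
        rw [← Finset.smul_sum, bas.sum_repr]
      rw [map_smul, map_sum, e1]
      refine Finset.sum_congr rfl fun i _ => ?_
      rw [map_smul, ← hx i]
      show den • bas.repr (loc w) i • bas i = co i • ((x i).2 : A) • bas i
      rw [smul_smul (co i), ← algebraMap_smul (Localization.Away t) den,
        ← algebraMap_smul (Localization.Away t) (co i * _), smul_smul]
      congr 1
      have hden : den = ((c i).2 : A) * (∏ j ∈ Finset.univ.erase i, ((c j).2 : A)) *
          (((x i).2 : A) * ∏ j ∈ Finset.univ.erase i, ((x j).2 : A)) := by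
        rw [Finset.mul_prod_erase Finset.univ (fun j => ((c j).2 : A)) (Finset.mem_univ i),
          Finset.mul_prod_erase Finset.univ (fun j => ((x j).2 : A)) (Finset.mem_univ i)]
      have h' := hc i
      rw [hden]
      simp only [co, map_mul, ← h']
      ring
    obtain ⟨u, hu⟩ := IsLocalizedModule.exists_of_eq (S := Submonoid.powers t) e
    have e2 := congrArg ℓ hu
    simp only [Submonoid.smul_def, map_smul, map_sum, hsmul] at e2
    have hpow : ∀ v : Submonoid.powers t, χ (π (v : A)) ≠ 0 := by
      rintro ⟨_, n, rfl⟩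
      simp only [map_pow]
      exact pow_ne_zero _ hχt
    have hden : χ (π den) ≠ 0 := by
      simp only [den, map_mul, map_prod]
      exact mul_ne_zero (Finset.prod_ne_zero_iff.2 fun i _ => hpow _) (Finset.prod_ne_zero_iff.2 fun i _ => hpow _)
    rw [← (Submodule.smul_mem_iff _ (hpow u)), ← (Submodule.smul_mem_iff _ hden), smul_comm, e2]
    exact Submodule.smul_mem _ _ (Submodule.sum_mem _ fun i _ => Submodule.smul_mem _ _
      (Submodule.subset_span ⟨i, rfl⟩))
  -- select two standard elements
  let G : Set Q := Set.range fun b => Ideal.Quotient.mk (M ^ 2) (gel χ b)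
  haveI : Module.Finite L (Submodule.span L (Set.range fun i => ℓ (x i).1)) :=
    Module.Finite.span_of_finite L (Set.finite_range _)
  have hGle : Submodule.span L G ≤ Submodule.span L (Set.range fun i => ℓ (x i).1) := by
    refine Submodule.span_le.2 ?_
    rintro _ ⟨b, rfl⟩
    obtain ⟨a, rfl⟩ := hπ b
    show Ideal.Quotient.mk (M ^ 2) (gel χ (π a)) ∈ _
    rw [← hℓ]
    exact hmem _
  obtain ⟨T, hTG, hTspan, hTli⟩ := exists_linearIndependent L G
  haveI : Module.Finite L (Submodule.span L G) := Submodule.finiteDimensional_of_le hGle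
  have hTfin : T.Finite := by
    have hli : LinearIndependent L (fun v : T => (⟨v.1, Submodule.subset_span (hTG v.2)⟩ : Submodule.span L G)) :=
      LinearIndependent.of_comp (Submodule.span L G).subtype hTli
    exact Set.finite_coe_iff.1 hli.finite
  have hcard : hTfin.toFinset.card ≤ 2 := by
    have h1 : Module.finrank L (Submodule.span L (T : Set Q)) = hTfin.toFinset.card := by
      haveI := hTfin.fintype
      rw [finrank_span_set_eq_card hTli, Set.Finite.toFinset_eq_toFinset]
    rw [← h1, hTspan]
    refine (Submodule.finrank_mono hGle).trans ((finrank_range_le_card (R := L) _).trans ?_)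
    simp
  choose! b hb using fun q (hq : q ∈ T) => hTG hq
  obtain ⟨b₁, b₂, hb12⟩ : ∃ b₁ b₂ : B, ∀ q ∈ T, b q = b₁ ∨ b q = b₂ := by
    obtain h0 | h0 | h0 : hTfin.toFinset.card = 0 ∨ hTfin.toFinset.card = 1 ∨ hTfin.toFinset.card = 2 := by omega
    · exact ⟨0, 0, fun q hq => absurd (hTfin.mem_toFinset.2 hq) (by simp [Finset.card_eq_zero.1 h0])⟩
    · obtain ⟨a, ha⟩ := Finset.card_eq_one.1 h0
      refine ⟨b a, b a, fun q hq => Or.inl ?_⟩
      have := hTfin.mem_toFinset.2 hq
      rw [ha, Finset.mem_singleton] at this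
      rw [this]
    · obtain ⟨a, a', -, ha⟩ := Finset.card_eq_two.1 h0
      refine ⟨b a, b a', fun q hq => ?_⟩
      have := hTfin.mem_toFinset.2 hq
      rw [ha, Finset.mem_insert, Finset.mem_singleton] at this
      rcases this with rfl | rfl
      · exact Or.inl rfl
      · exact Or.inr rfl
  refine ⟨b₁, b₂, ?_⟩
  set N := Ideal.span {gel χ b₁, gel χ b₂} ⊔ M ^ 2 with hN
  rw [hM, ker_evPt_eq_span, Ideal.span_le]
  rintro _ ⟨c, rfl⟩
  have hc : Ideal.Quotient.mk (M ^ 2) (gel χ c) ∈ ((N.map (Ideal.Quotient.mk (M ^ 2))).restrictScalars L) := by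
    refine (Submodule.span_le.2 ?_) (hTspan ▸ Submodule.subset_span ⟨c, rfl⟩ :
      Ideal.Quotient.mk (M ^ 2) (gel χ c) ∈ Submodule.span L T)
    intro q hq
    rw [SetLike.mem_coe, Submodule.restrictScalars_mem, ← hb q hq]
    refine Ideal.mem_map_of_mem _ (Ideal.mem_sup_left (Ideal.subset_span ?_))
    rcases hb12 q hq with h | h <;> simp [h]
  rw [Submodule.restrictScalars_mem, Ideal.mem_map_iff_of_surjective _ Ideal.Quotient.mk_surjective] at hc
  obtain ⟨z, hz, hzc⟩ := hc
  have : gel χ c - z ∈ M ^ 2 := Ideal.Quotient.eq.1 hzc.symm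
  rw [SetLike.mem_coe, ← sub_add_cancel (gel χ c) z]
  exact add_mem (Ideal.mem_sup_right this) hz

end Groth.Agent.H27CurveHilb
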